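import Groth.Agent.Lib.GrpdQuot.Alg
import Groth.Agent.Lib.Comod.TraceIntegral
import Groth.Prelude.Def_GLin
import Mathlib.RingTheory.Ideal.GoingDown
import Mathlib.RingTheory.Ideal.Height
import Mathlib.RingTheory.TensorProduct.Free

/-!
# Invariants of a finite group scheme acting on an affine scheme: integrality and going down
-/

universe u

set_option linter.style.haveILetI false

open TensorProduct HopfRep GLin

namespace GrothLib.FiniteQuot

variable {k : Type u} [CommRing k] {H : Type u} [CommRing H] [HopfAlgebra k H]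
  {R : Type u} [CommRing R] [Algebra k R] [Comod k H R] [IsCoactAlg k H R]

variable (k H R) in
/-- the source map of the action groupoid -/
noncomputable def src : R →ₐ[k] R ⊗[k] H := Algebra.TensorProduct.includeLeft

variable (k H R) in
/-- `(x, g, h) ↦ (x g, h)` -/
noncomputable def wMap : R ⊗[k] H →ₐ[k] (R ⊗[k] H) ⊗[k] H :=
  Algebra.TensorProduct.map (GLin.coactAlgHom k H R) (AlgHom.id k H)

variable (k H R) in
/-- `(x, g, h) ↦ (x, g h)` -/
noncomputable def qMap : R ⊗[k] H →ₐ[k] (R ⊗[k] H) ⊗[k] H :=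
  (Algebra.TensorProduct.assoc k k k R H H).symm.toAlgHom.comp
    (Algebra.TensorProduct.map (AlgHom.id k R) (Bialgebra.comulAlgHom k H))

variable (k H R) in
/-- `(x, g) ↦ (x, 1)` -/
noncomputable def unitMap : R ⊗[k] H →ₐ[k] R :=
  Algebra.TensorProduct.lift (AlgHom.id k R) ((Algebra.ofId k R).comp (Bialgebra.counitAlgHom k H))
    (fun _ _ => Commute.all _ _)

theorem wMap_tmul (r : R) (a : H) : wMap k H R (r ⊗ₜ a) = Comod.coact (k := k) (A := H) r ⊗ₜ[k] a := rfl

theorem unitMap_coact (r : R) : unitMap k H R (Comod.coact (k := k) (A := H) r) = r := by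
  have h : ∀ x : R ⊗[k] H, unitMap k H R x =
      TensorProduct.rid k R ((Coalgebra.counit (R := k) (A := H)).lTensor R x) := fun x => by
    induction x using TensorProduct.induction_on with
    | zero => simp
    | tmul p q => simp [unitMap, Algebra.smul_def, Algebra.ofId_apply, mul_comm]
    | add p q hp hq => simp only [map_add, hp, hq]
  have h' := LinearMap.congr_fun (Comod.counit_comp (k := k) (A := H) (V := R)) r
  simp only [LinearMap.comp_apply] at h'
  rw [h, h']
  simp

theorem isPO_src : GrpdQuot.IsPO (src k H R).toRingHom (src k H R).toRingHom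
    (Algebra.TensorProduct.includeLeft : R ⊗[k] H →ₐ[k] (R ⊗[k] H) ⊗[k] H).toRingHom
    (qMap k H R).toRingHom := by
  let Λ : R ⊗[k] (H ⊗[k] H) →ₐ[k] (R ⊗[k] H) ⊗[k] H := (Algebra.TensorProduct.assoc k k k R H H).symm.toAlgHom
  have hq : ∀ (r : R) (a : H), qMap k H R (r ⊗ₜ a) = Λ (r ⊗ₜ Coalgebra.comul (R := k) a) := fun _ _ => rfl
  let tw : H ⊗[k] H ≃ₗ[k] H ⊗[k] H := (Comodule.shear k H).toLinearEquiv.restrictScalars k
  have key : ∀ (r r' : R) (y a : H),
      ((r ⊗ₜ[k] y) ⊗ₜ[k] (1 : H)) * qMap k H R (r' ⊗ₜ a) =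
        Λ ((r * r') ⊗ₜ[k] ((y ⊗ₜ (1 : H)) * Coalgebra.comul (R := k) a)) := by
    intro r r' y a
    rw [hq, show ((r ⊗ₜ[k] y) ⊗ₜ[k] (1 : H)) = Λ (r ⊗ₜ (y ⊗ₜ 1)) from rfl, ← map_mul,
      Algebra.TensorProduct.tmul_mul_tmul]
  -- the Galois map
  let β : H ⊗[k] H →ₗ[k] H ⊗[k] H := TensorProduct.lift
    (LinearMap.mk₂ k (fun y a => (y ⊗ₜ (1 : H)) * Coalgebra.comul (R := k) a)
      (fun y y' a => by rw [TensorProduct.add_tmul, add_mul])
      (fun c y a => by rw [← TensorProduct.smul_tmul', smul_mul_assoc])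
      (fun y a a' => by rw [map_add, mul_add])
      (fun c y a => by rw [map_smul, mul_smul_comm]))
  obtain ⟨γ, hγ, hγ'⟩ : ∃ γ : H ⊗[k] H →ₗ[k] H ⊗[k] H, γ ∘ₗ β = LinearMap.id ∧ β ∘ₗ γ = LinearMap.id := by
    let γ : H ⊗[k] H →ₗ[k] H ⊗[k] H := TensorProduct.lift
      (LinearMap.mk₂ k (fun y a => (y ⊗ₜ (1 : H)) *
          (HopfAlgebraStruct.antipode (R := k) (A := H)).rTensor H (Coalgebra.comul (R := k) a))
        (fun y y' a => by rw [TensorProduct.add_tmul, add_mul])
        (fun c y a => by rw [← TensorProduct.smul_tmul', smul_mul_assoc])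
        (fun y a a' => by rw [map_add, map_add, mul_add])
        (fun c y a => by rw [map_smul, map_smul, mul_smul_comm]))
    have hc : ∀ (φ : H ⊗[k] H →ₗ[k] H) (a : H),
        (∀ b : H, φ (Coalgebra.comul (R := k) b) = algebraMap k H (Coalgebra.counit (R := k) b)) →
        φ.rTensor H ((TensorProduct.assoc k H H H).symm
          ((Coalgebra.comul (R := k) (A := H)).lTensor H (Coalgebra.comul (R := k) a))) = 1 ⊗ₜ a := by
      intro φ a hφ
      rw [Coalgebra.coassoc_symm_apply, ← LinearMap.rTensor_comp_apply,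
        show φ ∘ₗ Coalgebra.comul (R := k) = Algebra.linearMap k H ∘ₗ Coalgebra.counit from LinearMap.ext hφ,
        LinearMap.rTensor_comp_apply, Coalgebra.rTensor_counit_comul]
      simp
    refine ⟨γ, TensorProduct.ext' fun y a => ?_, TensorProduct.ext' fun y a => ?_⟩
    · have h0 := hc (LinearMap.mul' k H ∘ₗ (HopfAlgebraStruct.antipode (R := k) (A := H)).lTensor H) a
        fun b => HopfAlgebra.mul_antipode_lTensor_comul_apply b
      rw [LinearMap.comp_apply, LinearMap.id_apply]
      conv_rhs => rw [show y ⊗ₜ[k] a = (y ⊗ₜ 1) * ((1 : H) ⊗ₜ a) by simp, ← h0]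
      simp only [β, TensorProduct.lift.tmul, LinearMap.mk₂_apply, Algebra.TensorProduct.tmul_mul_tmul,
        mul_one, one_mul]
      induction Coalgebra.comul (R := k) a using TensorProduct.induction_on with
      | zero => simp
      | tmul p q =>
        simp only [Algebra.TensorProduct.tmul_mul_tmul, one_mul, γ, TensorProduct.lift.tmul, LinearMap.mk₂_apply,
          LinearMap.lTensor_tmul]
        induction Coalgebra.comul (R := k) q using TensorProduct.induction_on with
        | zero => simp
        | tmul u v => simp [mul_assoc]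
        | add u v hu hv => simp only [TensorProduct.tmul_add, map_add, mul_add, hu, hv]
      | add p q hp hq => simp only [map_add, mul_add, hp, hq]
    · have h0 := hc (LinearMap.mul' k H ∘ₗ (HopfAlgebraStruct.antipode (R := k) (A := H)).rTensor H) a
        fun b => HopfAlgebra.mul_antipode_rTensor_comul_apply b
      rw [LinearMap.comp_apply, LinearMap.id_apply]
      conv_rhs => rw [show y ⊗ₜ[k] a = (y ⊗ₜ 1) * ((1 : H) ⊗ₜ a) by simp, ← h0]
      simp only [γ, TensorProduct.lift.tmul, LinearMap.mk₂_apply, Algebra.TensorProduct.tmul_mul_tmul,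
        mul_one, one_mul]
      induction Coalgebra.comul (R := k) a using TensorProduct.induction_on with
      | zero => simp
      | tmul p q =>
        simp only [Algebra.TensorProduct.tmul_mul_tmul, one_mul, β, TensorProduct.lift.tmul, LinearMap.mk₂_apply,
          LinearMap.rTensor_tmul, LinearMap.lTensor_tmul]
        induction Coalgebra.comul (R := k) q using TensorProduct.induction_on with
        | zero => simp
        | tmul u v => simp [mul_assoc]
        | add u v hu hv => simp only [TensorProduct.tmul_add, map_add, mul_add, hu, hv]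
      | add p q hp hq => simp only [map_add, mul_add, hp, hq]
  refine ⟨RingHom.ext fun r => ?_, fun y => ?_, fun φ hφ => ?_⟩
  · change ((r ⊗ₜ[k] (1 : H)) ⊗ₜ[k] (1 : H)) = qMap k H R (r ⊗ₜ 1)
    rw [hq, Bialgebra.comul_one]
    rfl
  · obtain ⟨z, rfl⟩ := (Algebra.TensorProduct.assoc k k k R H H).symm.surjective y
    induction z using TensorProduct.induction_on with
    | zero => rw [map_zero]; exact zero_mem _
    | tmul r w =>
      rw [show w = β (γ w) from (LinearMap.congr_fun hγ' w).symm]
      induction γ w using TensorProduct.induction_on with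
      | zero => rw [map_zero, TensorProduct.tmul_zero, map_zero]; exact zero_mem _
      | tmul y a =>
        refine AddSubgroup.subset_closure ⟨r ⊗ₜ y, (1 : R) ⊗ₜ a, ?_⟩
        exact (key r 1 y a).trans (by rw [mul_one]; rfl)
      | add u v hu hv => rw [map_add, TensorProduct.tmul_add, map_add]; exact add_mem hu hv
    | add u v hu hv => rw [map_add]; exact add_mem hu hv
  · let φ' : R ⊗[k] H →ₗ[k] R :=
      { φ with
        map_smul' := fun c x => by
          change φ (c • x) = c • φ x
          rw [Algebra.smul_def, Algebra.smul_def, ← hφ (algebraMap k R c) x]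
          rw [← (src k H R).commutes c]
          rfl }
    let L : H ⊗[k] H →ₗ[k] R ⊗[k] H :=
      TensorProduct.lift (LinearMap.mk₂ k (fun y a => (φ' ((1 : R) ⊗ₜ a)) ⊗ₜ[k] y)
        (fun y y' a => TensorProduct.tmul_add _ _ _)
        (fun c y a => TensorProduct.tmul_smul _ _ _)
        (fun y a a' => by rw [TensorProduct.tmul_add, map_add, TensorProduct.add_tmul])
        (fun c y a => by rw [TensorProduct.tmul_smul, map_smul, ← TensorProduct.smul_tmul']))
    let T : R ⊗[k] (H ⊗[k] H) →ₗ[k] R ⊗[k] H :=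
      LinearMap.mul' k (R ⊗[k] H) ∘ₗ TensorProduct.map (src k H R).toLinearMap (L ∘ₗ γ)
    refine ⟨(T ∘ₗ (Algebra.TensorProduct.assoc k k k R H H).toLinearMap).toAddMonoidHom, fun z x => ?_⟩
    change T (Algebra.TensorProduct.assoc k k k R H H ((z ⊗ₜ[k] (1 : H)) * qMap k H R x)) = z * src k H R (φ x)
    induction z using TensorProduct.induction_on with
    | zero => simp
    | tmul r y =>
      induction x using TensorProduct.induction_on with
      | zero => simp
      | tmul r' a =>
        rw [key, show ∀ w, Algebra.TensorProduct.assoc k k k R H H (Λ w) = w from fun w =>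
          (Algebra.TensorProduct.assoc k k k R H H).apply_symm_apply w]
        have hT : T ((r * r') ⊗ₜ[k] β (y ⊗ₜ a)) = src k H R (r * r') * L (y ⊗ₜ a) := by
          simp only [T, LinearMap.comp_apply, TensorProduct.map_tmul, LinearMap.mul'_apply, AlgHom.toLinearMap_apply]
          rw [show γ (β (y ⊗ₜ a)) = y ⊗ₜ a from LinearMap.congr_fun hγ _]
        rw [show φ (r' ⊗ₜ a) = r' * φ' ((1 : R) ⊗ₜ a) by
          rw [show r' ⊗ₜ[k] a = (src k H R).toRingHom r' * ((1 : R) ⊗ₜ a) by
            change _ = (r' ⊗ₜ[k] (1 : H)) * _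
            simp, hφ]
          rfl]
        refine hT.trans ?_
        change ((r * r') ⊗ₜ[k] (1 : H)) * (φ' ((1 : R) ⊗ₜ a) ⊗ₜ[k] y) =
          (r ⊗ₜ[k] y) * ((r' * φ' ((1 : R) ⊗ₜ a)) ⊗ₜ[k] (1 : H))
        simp only [Algebra.TensorProduct.tmul_mul_tmul, mul_one, one_mul, mul_assoc]
      | add u v hu hv => simp only [map_add, mul_add, hu, hv]
    | add u v hu hv => simp only [TensorProduct.add_tmul, add_mul, map_add, hu, hv]

theorem isPO_coact : GrpdQuot.IsPO (GLin.coactAlgHom k H R).toRingHom (src k H R).toRingHom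
    (Algebra.TensorProduct.includeLeft : R ⊗[k] H →ₐ[k] (R ⊗[k] H) ⊗[k] H).toRingHom
    (wMap k H R).toRingHom := by
  refine ⟨RingHom.ext fun r => rfl, fun y => ?_, fun φ hφ => ?_⟩
  · induction y using TensorProduct.induction_on with
    | zero => exact zero_mem _
    | tmul z a =>
      refine AddSubgroup.subset_closure ⟨z, (1 : R) ⊗ₜ a, ?_⟩
      change (z ⊗ₜ[k] (1 : H)) * wMap k H R ((1 : R) ⊗ₜ a) = _
      rw [wMap_tmul, IsCoactAlg.coact_one (k := k) (A := H) (R := R), Algebra.TensorProduct.tmul_mul_tmul,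
        mul_one, one_mul]
    | add u v hu hv => exact add_mem hu hv
  · let φ' : R ⊗[k] H →ₗ[k] R :=
      { φ with
        map_smul' := fun c x => by
          change φ (c • x) = c • φ x
          rw [Algebra.smul_def, Algebra.smul_def, ← hφ (algebraMap k R c) x, ← (src k H R).commutes c]
          rfl }
    let T : (R ⊗[k] H) ⊗[k] H →ₗ[k] R ⊗[k] H :=
      LinearMap.mul' k (R ⊗[k] H) ∘ₗ TensorProduct.map LinearMap.id
        ((GLin.coactAlgHom k H R).toLinearMap ∘ₗ φ' ∘ₗ (TensorProduct.mk k R H 1))
    refine ⟨T.toAddMonoidHom, fun z x => ?_⟩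
    change T ((z ⊗ₜ[k] (1 : H)) * wMap k H R x) = z * GLin.coactAlgHom k H R (φ x)
    induction x using TensorProduct.induction_on with
    | zero => simp
    | tmul r' a =>
      rw [wMap_tmul, Algebra.TensorProduct.tmul_mul_tmul, one_mul]
      rw [show φ (r' ⊗ₜ a) = r' * φ' ((1 : R) ⊗ₜ a) by
        rw [show r' ⊗ₜ[k] a = (src k H R).toRingHom r' * ((1 : R) ⊗ₜ a) by
          change _ = (r' ⊗ₜ[k] (1 : H)) * _
          simp, hφ]
        rfl]
      simp [T, GLin.IsCoactAlg.coact_mul, mul_assoc]
    | add u v hu hv => simp only [map_add, mul_add, hu, hv]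

variable (k H R) in
/-- the action groupoid -/
noncomputable def gdata : GrpdQuot.GData R (R ⊗[k] H) ((R ⊗[k] H) ⊗[k] H) where
  s := (src k H R).toRingHom
  t := (GLin.coactAlgHom k H R).toRingHom
  e := (unitMap k H R).toRingHom
  p := (Algebra.TensorProduct.includeLeft : R ⊗[k] H →ₐ[k] (R ⊗[k] H) ⊗[k] H).toRingHom
  q := (qMap k H R).toRingHom
  w := (wMap k H R).toRingHom
  e_s := RingHom.ext fun r => by
    change unitMap k H R (r ⊗ₜ 1) = r
    simp [unitMap]
  e_t := RingHom.ext unitMap_coact
  pos := isPO_src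
  pot := isPO_coact
  qt := RingHom.ext fun r => by
    have h := LinearMap.congr_fun (Comod.coassoc (k := k) (A := H) (V := R)) r
    simp only [LinearMap.comp_apply, LinearEquiv.coe_coe] at h
    change qMap k H R (Comod.coact (k := k) (A := H) r) = wMap k H R (Comod.coact (k := k) (A := H) r)
    have h1 : ∀ x : R ⊗[k] H, qMap k H R x =
        (TensorProduct.assoc k R H H).symm ((Coalgebra.comul (R := k) (A := H)).lTensor R x) := fun x => by
      induction x using TensorProduct.induction_on with
      | zero => simp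
      | tmul p q => rfl
      | add p q hp hq => simp only [map_add, hp, hq]
    rw [h1, ← h, LinearEquiv.symm_apply_apply]
    induction Comod.coact (k := k) (A := H) r using TensorProduct.induction_on with
    | zero => simp
    | tmul p q => rfl
    | add p q hp hq => simp only [map_add, hp, hq]

theorem mem_inv_iff (r : R) : r ∈ (gdata k H R).inv ↔ r ∈ GLin.invariants k H R :=
  ⟨fun h => h.symm, fun h => h.symm⟩

variable [Module.Free k H] [Module.Finite k H]

theorem toAlgebra_eq : ((gdata k H R).s).toAlgebra = (inferInstance : Algebra R (R ⊗[k] H)) :=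
  Algebra.algebra_ext _ _ fun _ => rfl

variable (k H R) in
theorem finite_src : @Module.Finite R (R ⊗[k] H) _ _ ((gdata k H R).s).toAlgebra.toModule := by
  rw [toAlgebra_eq]
  exact Module.Finite.base_change k R H

variable (k H R) in
theorem projective_src : @Module.Projective R _ (R ⊗[k] H) _ ((gdata k H R).s).toAlgebra.toModule := by
  rw [toAlgebra_eq]
  haveI : Module.Free R (R ⊗[k] H) := inferInstance
  exact Module.Projective.of_free

theorem isIntegral_invariants : Algebra.IsIntegral (GLin.invariants k H R) R := by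
  haveI hint := @GrpdQuot.GData.isIntegral_inv _ _ _ _ _ _ (gdata k H R) (finite_src k H R) (projective_src k H R)
  refine ⟨fun r => ?_⟩
  obtain ⟨P, hP, hev⟩ := Algebra.IsIntegral.isIntegral (R := (gdata k H R).inv) r
  let e : (gdata k H R).inv →+* GLin.invariants k H R :=
    { toFun := fun a => ⟨a.1, (mem_inv_iff a.1).1 a.2⟩, map_one' := rfl, map_mul' := fun _ _ => rfl,
      map_zero' := rfl, map_add' := fun _ _ => rfl }
  refine ⟨P.map e, hP.map _, ?_⟩
  rw [Polynomial.eval₂_map]
  exact hev

/-- Primes over the same invariant prime are exchanged by the action. -/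
theorem exists_prime_of_under_eq (q q' : Ideal R) [q.IsPrime] [q'.IsPrime]
    (h : q.under (GLin.invariants k H R) = q'.under (GLin.invariants k H R)) :
    ∃ P : Ideal (R ⊗[k] H), P.IsPrime ∧ P.comap (src k H R).toRingHom = q ∧
      P.comap (GLin.coactAlgHom k H R).toRingHom = q' := by
  refine @GrpdQuot.GData.exists_prime_of_comap_eq _ _ _ _ _ _ (gdata k H R) (finite_src k H R)
    (projective_src k H R) q q' _ _ (Ideal.ext fun a => ?_)
  exact Ideal.ext_iff.1 h ⟨a.1, (mem_inv_iff a.1).1 a.2⟩

/-- Going down for the invariants of a finite group scheme. -/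
theorem hasGoingDown : Algebra.HasGoingDown (GLin.invariants k H R) R := by
  haveI := isIntegral_invariants (k := k) (H := H) (R := R)
  set A := GLin.invariants k H R
  refine ⟨fun {p'} _ q _ hp => ?_⟩
  -- some prime over `p'`
  haveI : Module.Free R (R ⊗[k] H) := inferInstance
  haveI : Module.Flat R (R ⊗[k] H) := inferInstance
  obtain ⟨q'', -, hq''p, hq''u⟩ := Ideal.exists_ideal_over_prime_of_isIntegral (S := R) p' ⊥
    (fun a ha => by
      have : a = 0 := Subtype.ext (Ideal.mem_bot.1 ha)
      rw [this]; exact zero_mem p')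
  haveI := hq''p
  haveI : q''.LiesOver p' := ⟨hq''u.symm⟩
  obtain ⟨q₀, hle, hq₀, hq₀u⟩ := Ideal.exists_ideal_over_prime_of_isIntegral_of_isPrime (R := A)
    (q.under A) q'' (hq''u.le.trans hp.le)
  haveI := hq₀
  -- move it below `q`
  obtain ⟨P, hP, hPs, hPt⟩ := exists_prime_of_under_eq (k := k) (H := H) q₀ q hq₀u
  haveI := hP
  haveI : P.LiesOver q₀ := ⟨hPs.symm⟩
  obtain ⟨P'', hP''le, hP''p, hP''o⟩ := Ideal.exists_ideal_le_liesOver_of_le (p := q'') (q := q₀) P hle
  haveI := hP''p
  refine ⟨P''.comap (GLin.coactAlgHom k H R).toRingHom, (Ideal.comap_mono hP''le).trans hPt.le,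
    inferInstance, ⟨?_⟩⟩
  rw [← hq''u, hP''o.over]
  ext a
  change ((a : R) ⊗ₜ[k] (1 : H)) ∈ P'' ↔ Comod.coact (k := k) (A := H) (a : R) ∈ P''
  rw [show Comod.coact (k := k) (A := H) (a : R) = (a : R) ⊗ₜ[k] (1 : H) from a.2]

/-- Going down bounds heights from below. -/
theorem height_under_le {A S : Type*} [CommRing A] [CommRing S] [Algebra A S] [Algebra.HasGoingDown A S]
    (q : Ideal S) [q.IsPrime] : (q.under A).height ≤ q.height := by
  rw [show (q.under A).height = Order.height (⟨q.under A, inferInstance⟩ : PrimeSpectrum A) from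
      PrimeSpectrum.height_eq_orderHeight ⟨q.under A, inferInstance⟩,
    show q.height = Order.height (⟨q, ‹_›⟩ : PrimeSpectrum S) from PrimeSpectrum.height_eq_orderHeight ⟨q, ‹_›⟩]
  refine Order.height_le fun l hl => ?_
  haveI : q.LiesOver l.last.asIdeal := ⟨by rw [hl]⟩
  obtain ⟨L, hL, hLlast, -⟩ := Ideal.exists_ltSeries_of_hasGoingDown l q
  rw [← hL, ← hLlast]
  exact Order.length_le_height_last

end GrothLib.FiniteQuot
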