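import Groth.Agent.Lib.Depth.Transfer
import Groth.Agent.Lib.Depth.Local
import Groth.Agent.Lib.CMFree.FiniteFlat
import Groth.Agent.Lib.FiniteQuot.Groupoid
import Groth.Prelude.Def_CAlg
import Mathlib.RingTheory.Localization.Finiteness
import Mathlib.RingTheory.Localization.BaseChange

/-!
# Serre conditions and Cohen–Macaulayness descend along finite maps with going down and a retraction
-/

universe u

open CategoryTheory CategoryTheory.Abelian RingTheory.Sequence

namespace GrothLib.FiniteQuot

/-- Depth is inherited by retracts. -/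
theorem idealDepth_le_of_retract {R : Type u} [CommRing R] [IsNoetherianRing R] (I : Ideal R)
    {M N : Type u} [AddCommGroup M] [Module R M] [Module.Finite R M] [AddCommGroup N] [Module R N]
    [Module.Finite R N] (i : N →ₗ[R] M) (p : M →ₗ[R] N) (h : p ∘ₗ i = LinearMap.id) :
    LocCoh.idealDepth I M ≤ LocCoh.idealDepth I N := by
  refine GrothLib.Depth.le_of_forall_coe_le fun n hn => ?_
  rw [GrothLib.Depth.le_idealDepth_iff_ext] at hn ⊢
  intro j hj
  haveI := hn j hj
  refine subsingleton_of_forall_eq 0 fun e => ?_
  have hip : ModuleCat.ofHom i ≫ ModuleCat.ofHom p = 𝟙 (ModuleCat.of R N) :=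
    ModuleCat.hom_ext h
  have e1 : e = (e.comp (Ext.mk₀ (ModuleCat.ofHom i)) (add_zero j)).comp
      (Ext.mk₀ (ModuleCat.ofHom p)) (add_zero j) := by
    rw [Ext.comp_assoc_of_second_deg_zero, Ext.mk₀_comp_mk₀, hip, Ext.comp_mk₀_id]
  rw [e1, Subsingleton.elim (e.comp (Ext.mk₀ (ModuleCat.ofHom i)) (add_zero j)) 0, Ext.zero_comp]

/-- Invariance of depth of a local ring on a module under semilinear equivalences. -/
theorem idealDepth_congr {R S : Type u} [CommRing R] [CommRing S] {M N : Type u} [AddCommGroup M]
    [Module R M] [AddCommGroup N] [Module S N] (σ : R ≃+* S) (e : M ≃+ N)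
    (he : ∀ (r : R) (x : M), e (r • x) = σ r • e x) (I : Ideal R) :
    LocCoh.idealDepth I M = LocCoh.idealDepth (I.map (σ : R →+* S)) N := by
  classical
  have htop : I • (⊤ : Submodule R M) = ⊤ ↔ (I.map (σ : R →+* S)) • (⊤ : Submodule S N) = ⊤ := by
    constructor
    · intro h
      refine top_le_iff.1 fun y hy => ?_
      clear hy
      obtain ⟨x, rfl⟩ := e.surjective y
      have hx : x ∈ I • (⊤ : Submodule R M) := h.ge Submodule.mem_top
      induction hx using Submodule.smul_induction_on' with
      | smul r hr m _ => rw [he]; exact Submodule.smul_mem_smul (Ideal.mem_map_of_mem _ hr) trivial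
      | add a _ b _ ha hb => rw [map_add]; exact add_mem ha hb
    · intro h
      refine top_le_iff.1 fun x _ => ?_
      suffices ∀ y ∈ (I.map (σ : R →+* S)) • (⊤ : Submodule S N), e.symm y ∈ I • (⊤ : Submodule R M) by
        simpa using this (e x) (h.ge Submodule.mem_top)
      intro y hy
      induction hy using Submodule.smul_induction_on' with
      | smul s hs n _ =>
        obtain ⟨r, hr, rfl⟩ := (Ideal.mem_map_iff_of_surjective (σ : R →+* S) σ.surjective).1 hs
        have : e.symm ((σ : R →+* S) r • n) = r • e.symm n := e.injective (by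
          rw [he, AddEquiv.apply_symm_apply, AddEquiv.apply_symm_apply]; rfl)
        rw [this]
        exact Submodule.smul_mem_smul hr trivial
      | add a _ b _ ha hb => rw [map_add]; exact add_mem ha hb
  unfold LocCoh.idealDepth
  by_cases h : I • (⊤ : Submodule R M) = ⊤
  · rw [if_pos h, if_pos (htop.1 h)]
  rw [if_neg h, if_neg (mt htop.2 h)]
  have key : ∀ rs : List R, IsWeaklyRegular M rs ↔ IsWeaklyRegular N (rs.map σ) := fun rs =>
    e.isWeaklyRegular_congr (List.forall₂_map_right_iff.mpr (List.forall₂_same.mpr fun r _ x => he r x))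
  refine le_antisymm (iSup₂_le fun rs hrs => ?_) (iSup₂_le fun ss hss => ?_)
  · refine le_trans (le_of_eq ?_) (le_iSup₂ (f := fun (l : List S) (_ : IsWeaklyRegular N l ∧
      ∀ r ∈ l, r ∈ I.map (σ : R →+* S)) => (l.length : ℕ∞)) (rs.map σ) ⟨(key rs).1 hrs.1, ?_⟩)
    · simp
    · simp only [List.mem_map]
      rintro _ ⟨r, hr, rfl⟩
      exact Ideal.mem_map_of_mem _ (hrs.2 r hr)
  · refine le_trans (le_of_eq ?_) (le_iSup₂ (f := fun (l : List R) (_ : IsWeaklyRegular M l ∧
      ∀ r ∈ l, r ∈ I) => (l.length : ℕ∞)) (ss.map σ.symm) ⟨(key _).2 ?_, ?_⟩)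
    · simp
    · simpa [List.map_map, Function.comp_def] using hss.1
    · simp only [List.mem_map]
      rintro _ ⟨s, hs, rfl⟩
      obtain ⟨r, hr, rfl⟩ := (Ideal.mem_map_iff_of_surjective (σ : R →+* S) σ.surjective).1 (hss.2 s hs)
      simpa using hr

/-- Depth of the localized module and of the localized ring. -/
theorem depth_localizedModule_self {R : Type u} [CommRing R] (q : Ideal R) [q.IsPrime] (B : Type u)
    [CommRing B] [Algebra R B] [IsLocalization.AtPrime B q] [IsLocalRing B] :
    LocCoh.depth (Localization.AtPrime q) (LocalizedModule q.primeCompl R) = LocCoh.depth B B := by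
  let σ : Localization.AtPrime q ≃ₐ[R] B := IsLocalization.algEquiv q.primeCompl _ _
  let e : LocalizedModule q.primeCompl R ≃ₗ[R] Localization.AtPrime q :=
    IsLocalizedModule.iso q.primeCompl (Algebra.linearMap R (Localization.AtPrime q))
  let e' : LocalizedModule q.primeCompl R ≃ₗ[Localization.AtPrime q] Localization.AtPrime q :=
    LinearEquiv.extendScalarsOfIsLocalization q.primeCompl (Localization.AtPrime q) e
  unfold LocCoh.depth
  rw [idealDepth_congr σ.toRingEquiv (e'.toAddEquiv.trans σ.toRingEquiv.toAddEquiv)
    (fun r x => by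
      change σ (e' (r • x)) = σ r * σ (e' x)
      rw [map_smul, smul_eq_mul, map_mul])]
  congr 1
  exact (IsLocalRing.eq_maximalIdeal (Ideal.map_isMaximal_of_equiv σ.toRingEquiv)).trans rfl

theorem supportDim_localizedModule_self {R : Type u} [CommRing R] (q : Ideal R) [q.IsPrime] :
    Module.supportDim (Localization.AtPrime q) (LocalizedModule q.primeCompl R) = (q.height : WithBot ℕ∞) := by
  let e : LocalizedModule q.primeCompl R ≃ₗ[R] Localization.AtPrime q :=
    IsLocalizedModule.iso q.primeCompl (Algebra.linearMap R (Localization.AtPrime q))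
  rw [Module.supportDim_eq_of_equiv (LinearEquiv.extendScalarsOfIsLocalization q.primeCompl
      (Localization.AtPrime q) e), Module.supportDim_self_eq_ringKrullDim,
    IsLocalization.AtPrime.ringKrullDim_eq_height q (Localization.AtPrime q)]

section Descent

variable {A R : Type u} [CommRing A] [IsNoetherianRing A] [CommRing R] [Algebra A R] [Module.Finite A R]
  [Algebra.HasGoingDown A R]

theorem depth_bound (p : Ideal A) [p.IsPrime] (b : ℕ∞)
    (hb : ∀ (q : Ideal R) [q.IsPrime], q.under A = p →
      b ≤ LocCoh.depth (Localization.AtPrime q) (LocalizedModule q.primeCompl R)) :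
    b ≤ LocCoh.depth (Localization.AtPrime p) (LocalizedModule p.primeCompl R) := by
  let S := Algebra.algebraMapSubmonoid R p.primeCompl
  let Rp := Localization S
  let Ap := Localization.AtPrime p
  haveI : IsNoetherianRing Ap := IsLocalization.isNoetherianRing p.primeCompl _ inferInstance
  haveI : IsNoetherianRing R := IsNoetherianRing.of_finite A R
  haveI : IsNoetherianRing Rp := IsLocalization.isNoetherianRing S _ inferInstance
  haveI : Module.Finite Ap Rp := Module.Finite.of_isLocalization A R p.primeCompl
  haveI : IsLocalizedModule p.primeCompl (IsScalarTower.toAlgHom A R Rp).toLinearMap :=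
    isLocalizedModule_iff_isLocalization.2 inferInstance
  let e : LocalizedModule p.primeCompl R ≃ₗ[A] Rp :=
    IsLocalizedModule.iso p.primeCompl (IsScalarTower.toAlgHom A R Rp).toLinearMap
  haveI : Module.Finite Ap (LocalizedModule p.primeCompl R) :=
    Module.Finite.equiv (LinearEquiv.extendScalarsOfIsLocalization p.primeCompl Ap e).symm
  unfold LocCoh.depth
  rw [GrothLib.Depth.idealDepth_eq_of_equiv _ (LinearEquiv.extendScalarsOfIsLocalization p.primeCompl Ap e),
    ← GrothLib.Depth.idealDepth_map_eq (B := Rp) (IsLocalRing.maximalIdeal Ap) Rp]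
  rcases eq_or_ne (LocCoh.idealDepth ((IsLocalRing.maximalIdeal Ap).map (algebraMap Ap Rp)) Rp) ⊤ with h | h
  · rw [h]; exact le_top
  obtain ⟨n, hn⟩ := ENat.ne_top_iff_exists.1 h
  obtain ⟨Q, hQ, hQn⟩ := GrothLib.Depth.exists_depth_localization_le _ n hn.symm
  rw [← hn]
  refine le_trans ?_ hQn
  let q := Q.asIdeal.under R
  haveI : IsLocalization.AtPrime (Localization.AtPrime Q.asIdeal) q :=
    IsLocalization.isLocalization_isLocalization_atPrime_isLocalization S _ Q.asIdeal
  rw [depth_localizedModule_self Q.asIdeal (Localization.AtPrime Q.asIdeal),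
    ← depth_localizedModule_self q (Localization.AtPrime Q.asIdeal)]
  refine hb q ?_
  have h1 : (Q.asIdeal.comap (algebraMap Ap Rp)) = IsLocalRing.maximalIdeal Ap :=
    ((IsLocalRing.maximalIdeal.isMaximal Ap).eq_of_le (Ideal.IsPrime.ne_top inferInstance)
      (Ideal.map_le_iff_le_comap.1 hQ)).symm
  change (Q.asIdeal.comap (algebraMap R Rp)).comap (algebraMap A R) = p
  rw [Ideal.comap_comap, ← IsScalarTower.algebraMap_eq, IsScalarTower.algebraMap_eq A Ap Rp, ← Ideal.comap_comap,
    h1]
  exact IsLocalization.AtPrime.comap_maximalIdeal Ap p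

/-- The module form of the Serre condition descends. -/
theorem hasSk_module (hinj : Function.Injective (algebraMap A R)) (r : ℕ) (hR : LocCoh.HasSk r R R) :
    LocCoh.HasSk r A R := by
  intro p _
  haveI := hinj
  have hdim : Module.supportDim (Localization.AtPrime p) (LocalizedModule p.primeCompl R) ≤
      (p.height : WithBot ℕ∞) := by
    rw [← IsLocalization.AtPrime.ringKrullDim_eq_height p (Localization.AtPrime p)]
    exact Module.supportDim_le_ringKrullDim _ _
  refine (min_le_min le_rfl hdim).trans ?_
  rw [← WithBot.coe_natCast, ← WithBot.coe_min, WithBot.coe_le_coe]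
  refine depth_bound p _ fun q _ hq => ?_
  have h := hR q
  rw [supportDim_localizedModule_self, ← WithBot.coe_natCast, ← WithBot.coe_min, WithBot.coe_le_coe] at h
  exact (min_le_min le_rfl (hq ▸ height_under_le (A := A) q)).trans h

/-- With a retraction the depth of the base bounds the depth of the extension. -/
theorem depth_le_depth_base (E : R →ₗ[A] A) (hE : E 1 = 1) (p : Ideal A) [p.IsPrime] :
    LocCoh.depth (Localization.AtPrime p) (LocalizedModule p.primeCompl R) ≤
      LocCoh.depth (Localization.AtPrime p) (LocalizedModule p.primeCompl A) := by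
  haveI : IsNoetherianRing (Localization.AtPrime p) := IsLocalization.isNoetherianRing p.primeCompl _ inferInstance
  haveI : Module.Finite (Localization.AtPrime p) (LocalizedModule p.primeCompl A) :=
    Module.Finite.of_isLocalizedModule p.primeCompl (LocalizedModule.mkLinearMap p.primeCompl A)
  haveI : Module.Finite (Localization.AtPrime p) (LocalizedModule p.primeCompl R) :=
    Module.Finite.of_isLocalizedModule p.primeCompl (LocalizedModule.mkLinearMap p.primeCompl R)
  refine idealDepth_le_of_retract _ (LocalizedModule.map p.primeCompl (Algebra.linearMap A R))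
    (LocalizedModule.map p.primeCompl E) (LinearMap.ext fun x => ?_)
  induction x using LocalizedModule.induction_on with
  | h a s =>
    rw [LinearMap.comp_apply, LocalizedModule.map_mk, LocalizedModule.map_mk, LinearMap.id_apply]
    rw [Algebra.linearMap_apply, Algebra.algebraMap_eq_smul_one, map_smul, hE, smul_eq_mul, mul_one]

theorem supportDim_le_of_injective (hinj : Function.Injective (algebraMap A R)) (p : Ideal A) [p.IsPrime] :
    Module.supportDim (Localization.AtPrime p) (LocalizedModule p.primeCompl A) ≤
      Module.supportDim (Localization.AtPrime p) (LocalizedModule p.primeCompl R) :=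
  Module.supportDim_le_of_injective (LocalizedModule.map p.primeCompl (Algebra.linearMap A R))
    (LocalizedModule.map_injective p.primeCompl (Algebra.linearMap A R) hinj)

theorem hasSk_base (hinj : Function.Injective (algebraMap A R)) (E : R →ₗ[A] A) (hE : E 1 = 1) (r : ℕ)
    (hR : LocCoh.HasSk r R R) : LocCoh.HasSk r A A := by
  intro p _
  refine le_trans ?_ (WithBot.coe_le_coe.2 (depth_le_depth_base E hE p))
  exact (min_le_min le_rfl (supportDim_le_of_injective hinj p)).trans (hasSk_module hinj r hR p)

theorem coe_le_of_forall_min {a : WithBot ℕ∞} {b : ℕ∞}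
    (h : ∀ r : ℕ, min (r : WithBot ℕ∞) a ≤ (b : WithBot ℕ∞)) : a ≤ (b : WithBot ℕ∞) := by
  induction a with
  | bot => exact bot_le
  | coe a =>
    refine WithBot.coe_le_coe.2 (GrothLib.Depth.le_of_forall_coe_le fun n hn => ?_)
    have := h n
    rw [← WithBot.coe_natCast, ← WithBot.coe_min, WithBot.coe_le_coe, min_eq_left hn] at this
    exact this

/-- Cohen–Macaulayness descends, and the extension is maximal Cohen–Macaulay over the base. -/
theorem isCohenMacaulay_of_retract (hinj : Function.Injective (algebraMap A R)) (E : R →ₗ[A] A) (hE : E 1 = 1)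
    (hR : LocCoh.IsCohenMacaulayRing R) :
    LocCoh.IsCohenMacaulayRing A ∧ ∀ (p : Ideal A) [p.IsPrime],
      LocCoh.IsCohenMacaulayModule (Localization.AtPrime p) (LocalizedModule p.primeCompl R) ∧
        Module.supportDim (Localization.AtPrime p) (LocalizedModule p.primeCompl R) =
          ringKrullDim (Localization.AtPrime p) := by
  have hS : ∀ r : ℕ, LocCoh.HasSk r R R := fun r q _ => by
    haveI := hR.isCohenMacaulayLocalRing_localization q
    refine (min_le_right _ _).trans ?_
    rw [supportDim_localizedModule_self, depth_localizedModule_self q (Localization.AtPrime q),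
      ← IsLocalization.AtPrime.ringKrullDim_eq_height q (Localization.AtPrime q),
      ← Module.supportDim_self_eq_ringKrullDim]
    exact LocCoh.IsCohenMacaulayLocalRing.supportDim_eq_depth.le
  have key : ∀ (p : Ideal A) [p.IsPrime],
      Module.supportDim (Localization.AtPrime p) (LocalizedModule p.primeCompl R) = (p.height : WithBot ℕ∞) ∧
      LocCoh.depth (Localization.AtPrime p) (LocalizedModule p.primeCompl R) = p.height ∧
      LocCoh.depth (Localization.AtPrime p) (Localization.AtPrime p) = p.height := by
    intro p _
    have hd : Module.supportDim (Localization.AtPrime p) (LocalizedModule p.primeCompl R) =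
        (p.height : WithBot ℕ∞) := by
      refine le_antisymm ?_ ?_
      · rw [← IsLocalization.AtPrime.ringKrullDim_eq_height p (Localization.AtPrime p)]
        exact Module.supportDim_le_ringKrullDim _ _
      · rw [← supportDim_localizedModule_self]
        exact supportDim_le_of_injective hinj p
    have h1 := coe_le_of_forall_min fun r => hasSk_module hinj r (hS r) p
    rw [hd, WithBot.coe_le_coe] at h1
    have h2 : LocCoh.depth (Localization.AtPrime p) (LocalizedModule p.primeCompl R) ≤
        LocCoh.depth (Localization.AtPrime p) (Localization.AtPrime p) :=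
      (depth_le_depth_base E hE p).trans (depth_localizedModule_self p _).le
    haveI : IsNoetherianRing (Localization.AtPrime p) :=
      IsLocalization.isNoetherianRing p.primeCompl _ inferInstance
    have h3 := GrothLib.CMFree.depth_le_ringKrullDim (Localization.AtPrime p)
    rw [IsLocalization.AtPrime.ringKrullDim_eq_height p (Localization.AtPrime p), WithBot.coe_le_coe] at h3
    exact ⟨hd, le_antisymm (h2.trans h3) h1, le_antisymm h3 (h1.trans h2)⟩
  refine ⟨⟨fun p _ => ?_⟩, fun p _ => ?_⟩
  · haveI : IsNoetherianRing (Localization.AtPrime p) :=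
      IsLocalization.isNoetherianRing p.primeCompl _ inferInstance
    refine ⟨?_⟩
    rw [Module.supportDim_self_eq_ringKrullDim,
      IsLocalization.AtPrime.ringKrullDim_eq_height p (Localization.AtPrime p), (key p).2.2]
  · obtain ⟨hd, hM, -⟩ := key p
    refine ⟨?_, ?_⟩
    · rw [LocCoh.IsCohenMacaulayModule, hd, hM]
    · rw [hd, IsLocalization.AtPrime.ringKrullDim_eq_height p (Localization.AtPrime p)]

end Descent

end GrothLib.FiniteQuot
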