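import Groth.Agent.Lib.FiniteQuot.DepthDescent
import Groth.Agent.Lib.AffQuot.Invariants
import Groth.Agent.Lib.AffQuot.FinGen

/-!
# The invariants of a linearly reductive finite group scheme
-/

universe u

open TensorProduct HopfRep GLin GrothLib.Comodule

namespace GrothLib.FiniteQuot

variable {k : Type u} [Field k] {H : Type u} [CommRing H] [HopfAlgebra k H] [Module.Finite k H]
  {R : Type u} [CommRing R] [Algebra k R] [Algebra.FiniteType k R] [Comod k H R] [IsCoactAlg k H R]

theorem fintype_invariants (hG : IsLinearlyReductive k H) :
    IsNoetherianRing (invariants k H R) ∧ Module.Finite (invariants k H R) R ∧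
      Algebra.HasGoingDown (invariants k H R) R ∧
      ∃ E : R →ₗ[invariants k H R] invariants k H R, E 1 = 1 := by
  haveI : Algebra.FiniteType k (invariants k H R) :=
    (Subalgebra.fg_iff_finiteType _).1 (AffQuot.fg_invariants hG)
  haveI : IsNoetherianRing (invariants k H R) := Algebra.FiniteType.isNoetherianRing k _
  haveI : Module.Free k H := inferInstance
  haveI := isIntegral_invariants (k := k) (H := H) (R := R)
  haveI : Algebra.FiniteType (invariants k H R) R :=
    Algebra.FiniteType.of_restrictScalars_finiteType k _ R
  refine ⟨inferInstance, Algebra.IsIntegral.finite, hasGoingDown, ?_⟩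
  exact ⟨{ toFun := fun x => ⟨Reynolds.reynolds (V := R) hG x, Reynolds.reynolds_mem hG x⟩
           map_add' := fun a b => Subtype.ext (map_add _ a b)
           map_smul' := fun c f => Subtype.ext (AffQuot.reynolds_mul hG c.2 f) },
    Subtype.ext (Reynolds.reynolds_fixed hG (invariants k H R).one_mem)⟩

end GrothLib.FiniteQuot
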